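import Mathlib.AlgebraicGeometry.AlgClosed.Basic
import Mathlib.AlgebraicGeometry.Noetherian
import Mathlib.AlgebraicGeometry.Morphisms.Immersion
import Mathlib.AlgebraicGeometry.PullbackCarrier
import Mathlib.AlgebraicGeometry.Morphisms.FiniteType
import Mathlib.AlgebraicGeometry.Morphisms.Etale

/-!
# Points with values in an algebraically closed field, and compactness

* `exists_closedPoint` : a nonempty Jacobson space has a closed point;
* `exists_section` : a nonempty scheme locally of finite type over an algebraically closed field has a rational point;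
* `exists_point_of_isClosed` : every closed point of a scheme locally of finite type over a field `k` comes from a point
  with values in any algebraically closed extension of `k`;
* `compactSpace_of_range` : a Jacobson scheme receiving a map from a compact scheme hitting all the closed points is
  compact;
* `compactSpace_pullback` : `A ×_P B` is compact if `A ×_S B` is Noetherian.
-/

set_option autoImplicit false
universe u

open CategoryTheory CategoryTheory.Limits AlgebraicGeometry TopologicalSpace

namespace Groth.Agent.Pic13.H703.KPoints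

theorem exists_closedPoint_mem {Z : Type*} [TopologicalSpace Z] [JacobsonSpace Z] (C : Set Z)
    (hC : IsClosed C) (hne : C.Nonempty) : ∃ z ∈ C, IsClosed ({z} : Set Z) := by
  have h := JacobsonSpace.closure_inter_closedPoints_eq_closure hC.isLocallyClosed
  rw [hC.closure_eq] at h
  have h1 : (C ∩ closedPoints Z).Nonempty := by
    rw [← closure_nonempty_iff, h]
    exact hne
  obtain ⟨z, hz, hz'⟩ := h1
  exact ⟨z, hz, hz'⟩

theorem exists_section {K : Type u} [Field K] [IsAlgClosed K] {V : Scheme.{u}}
    (q : V ⟶ Spec (CommRingCat.of K)) [LocallyOfFiniteType q] [Nonempty V] :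
    ∃ s : Spec (CommRingCat.of K) ⟶ V, s ≫ q = 𝟙 _ := by
  have : JacobsonSpace V := LocallyOfFiniteType.jacobsonSpace q
  obtain ⟨z, -, hz⟩ := exists_closedPoint_mem (Set.univ : Set V) isClosed_univ Set.univ_nonempty
  exact ⟨pointOfClosedPoint q z hz, pointOfClosedPoint_comp q z hz⟩

theorem exists_point_of_isClosed {k K : Type u} [Field k] [Field K] [IsAlgClosed K]
    (b : Spec (CommRingCat.of K) ⟶ Spec (CommRingCat.of k)) {E : Scheme.{u}}
    (h : E ⟶ Spec (CommRingCat.of k)) [LocallyOfFiniteType h] (e : E) (he : IsClosed ({e} : Set E)) :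
    ∃ κ : Spec (CommRingCat.of K) ⟶ E, κ ≫ h = b ∧ e ∈ Set.range κ := by
  have hb : Surjective b := by
    refine ⟨fun p => ⟨IsLocalRing.closedPoint K, ?_⟩⟩
    exact Subsingleton.elim (α := PrimeSpectrum k) _ _
  have hs : Surjective (pullback.fst h b) := inferInstance
  have : JacobsonSpace (pullback h b : Scheme.{u}) := LocallyOfFiniteType.jacobsonSpace (pullback.snd h b)
  obtain ⟨z, hz, hz'⟩ := exists_closedPoint_mem ((pullback.fst h b) ⁻¹' {e})
    (he.preimage (pullback.fst h b).continuous) (by
      obtain ⟨w, hw⟩ := hs.surj e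
      exact ⟨w, hw⟩)
  let κ := pointOfClosedPoint (pullback.snd h b) z hz'
  have h1 : κ ≫ pullback.snd h b = 𝟙 _ := pointOfClosedPoint_comp _ z hz'
  refine ⟨κ ≫ pullback.fst h b, ?_, ⟨IsLocalRing.closedPoint K, ?_⟩⟩
  · rw [Category.assoc, pullback.condition, ← Category.assoc, h1, Category.id_comp]
  · rw [Scheme.Hom.comp_apply, pointOfClosedPoint_apply]
    exact hz

theorem compactSpace_of_range {k : Type u} [Field k] {E E' : Scheme.{u}}
    (h : E ⟶ Spec (CommRingCat.of k)) [LocallyOfFiniteType h] (v : E' ⟶ E) [CompactSpace E']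
    (hv : ∀ e : E, IsClosed ({e} : Set E) → e ∈ Set.range v) : CompactSpace E := by
  have : JacobsonSpace E := LocallyOfFiniteType.jacobsonSpace h
  have hc : IsCompact (Set.range v) := isCompact_range v.continuous
  -- finitely many affine opens cover the image
  obtain ⟨t, ht⟩ := hc.elim_finite_subcover (fun U : E.affineOpens => (U.1 : Set E)) (fun U => U.1.2) (by
    intro x _
    obtain ⟨_, ⟨V, hV, rfl⟩, hxV, -⟩ := E.isBasis_affineOpens.exists_subset_of_mem_open (Set.mem_univ x) isOpen_univ
    exact Set.mem_iUnion.2 ⟨⟨V, hV⟩, hxV⟩)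
  have huniv : (⋃ U ∈ t, (U.1 : Set E)) = Set.univ := by
    by_contra hcon
    obtain ⟨z, hz, hz'⟩ := exists_closedPoint_mem (⋃ U ∈ t, (U.1 : Set E))ᶜ
      (isOpen_biUnion fun U _ => U.1.2).isClosed_compl (Set.nonempty_compl.2 hcon)
    exact hz (ht (hv z hz'))
  rw [← isCompact_univ_iff, ← huniv]
  exact t.finite_toSet.isCompact_biUnion fun U _ => U.2.isCompact

theorem compactSpace_pullback {A B P S : Scheme.{u}} (a : A ⟶ P) (b : B ⟶ P) (p : P ⟶ S)
    [NoetherianSpace (pullback (a ≫ p) (b ≫ p) : Scheme.{u})] :
    CompactSpace (pullback a b : Scheme.{u}) := by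
  have h : IsImmersion (pullback.mapDesc a b p) :=
    MorphismProperty.of_isPullback (P := @IsImmersion) (pullback_map_diagonal_isPullback a b p) inferInstance
  have h1 : NoetherianSpace (pullback a b : Scheme.{u}) :=
    (pullback.mapDesc a b p).isEmbedding.isInducing.noetherianSpace
  infer_instance

end Groth.Agent.Pic13.H703.KPoints
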