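import Groth.Agent.Pic13.H703.KPoints
import Groth.Agent.Pic13.H965.LFT
import Groth.Agent.Pic13.H969.Bridge
import Groth.Prelude.Def_PicRel2
import Groth.Prelude.Def_Pic13
import Mathlib.AlgebraicGeometry.Morphisms.Proper
import Mathlib.FieldTheory.IsAlgClosed.AlgebraicClosure

/-!
# Quasi-compactness of the morphism of Picard schemes defined by a surjective morphism (for S4299)

`quasiCompact_of_S4291` : conditional on S4291 (pull-back preimages of bounded families are bounded).
-/

set_option autoImplicit false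
universe u
open CategoryTheory CategoryTheory.Limits AlgebraicGeometry TopologicalSpace

namespace Groth.Agent.Pic13.H703.QC

open Groth.Agent.Ega3A.PicDiv Groth.Agent.Ega3A.PicEtSh Groth.Agent.Grpsch.PicGrp
open Groth.Agent.Ega3A.PicSheaf Groth.Agent.Ega3A.PicLocBase Groth.Agent.Fga.RigGrp
open Groth.Agent.Pic13.H965 Groth.Agent.Pic13.H965.RelGrp
open Groth.Agent.Pic13.H138.Slice Groth.Agent.Pic13.H138.BddPic
open Groth.Agent.Fdesc
open Groth.Agent.Pic13.H703.KPoints

/-- The statement S4291 as a hypothesis. -/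
def S4291Stmt : Prop := ∀ (k : Type u) [Field k] [IsAlgClosed k] (X Y : Scheme.{u})
    [X.Over (Spec (CommRingCat.of k))] [Y.Over (Spec (CommRingCat.of k))]
    [IsProper (X ↘ Spec (CommRingCat.of k))] [IsProper (Y ↘ Spec (CommRingCat.of k))]
    (f : X ⟶ Y) (_ : f ≫ (Y ↘ Spec (CommRingCat.of k)) = X ↘ Spec (CommRingCat.of k)) [Surjective f]
    (P : X.Modules → Prop) (_ : Pic13.IsBounded k X P),
    Pic13.IsBounded k Y (fun M : Y.Modules => PicF.IsInvertible M ∧ ∃ L : X.Modules, P L ∧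
      Nonempty ((Scheme.Modules.pullback f).obj M ≅ L))

theorem isCoh_of_isInvertible {X : Scheme.{u}} {N : X.Modules} (hN : PicF.IsInvertible N) : Coh.IsCoh N := by
  refine ⟨Groth.Agent.Ega2.QCohLocal.isQCoh_of_isInvertible hN, ?_⟩
  have h0 : Coh.IsQCoh N := Groth.Agent.Ega2.QCohLocal.isQCoh_of_isInvertible hN
  refine Groth.Agent.CohqB.FiniteType2.isFT_of_finite_sections _ fun x => ?_
  obtain ⟨U, e, hxU, he⟩ := (LocGen.isInvertible_iff N).1 hN x
  obtain ⟨_, ⟨V, hV, rfl⟩, hxV, hVU⟩ := X.isBasis_affineOpens.exists_subset_of_mem_open hxU U.isOpen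
  refine ⟨V, hxV, hV, ?_⟩
  refine Module.Finite.of_surjective (LinearMap.toSpanSingleton Γ(X, V) Γ(N, V) (LocGen.res N hVU e)) fun t => ?_
  obtain ⟨a, ha⟩ := (he.res hVU).exists_eq t
  exact ⟨a, ha.symm⟩

section Points

variable {k K : Type u} [Field k] [Field K] [IsAlgClosed K]
  (b : Spec (CommRingCat.of K) ⟶ Spec (CommRingCat.of k))

/-- An étale covering of a geometric point has a section. -/
theorem exists_section_ecov (𝒰 : ECov (Over.mk b)) :
    ∃ (i : 𝒰.ι) (s : Over.mk b ⟶ 𝒰.V i), s ≫ 𝒰.j i = 𝟙 _ := by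
  obtain ⟨i, v, -⟩ := 𝒰.covers (IsLocalRing.closedPoint K)
  have he : Etale (𝒰.j i).left := 𝒰.isEtale i
  have hne : Nonempty (𝒰.V i).left := ⟨v⟩
  have hl : LocallyOfFiniteType (𝒰.j i).left := inferInstance
  obtain ⟨s, hs⟩ := exists_section (K := K) (show (𝒰.V i).left ⟶ Spec (CommRingCat.of K) from (𝒰.j i).left)
  refine ⟨i, Over.homMk s ?_, ?_⟩
  · have h1 := Over.w (𝒰.j i)
    change s ≫ (𝒰.V i).hom = b
    rw [← h1]
    change s ≫ (𝒰.j i).left ≫ b = b
    rw [← Category.assoc, hs, Category.id_comp]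
  · ext
    exact hs

variable {X : Scheme.{u}} (f : X ⟶ Spec (CommRingCat.of k))

/-- Classes over a geometric point which agree étale-locally agree. -/
theorem eq_of_locEq {c c' : Pic (PicF.XT f (Over.mk b))} (h : LocEq f (Over.mk b) c c') : c = c' := by
  obtain ⟨𝒰, h⟩ := h
  obtain ⟨i, s, hs⟩ := exists_section_ecov b 𝒰
  have h1 := congrArg (pu f s) (h i)
  rw [← pu_comp, ← pu_comp, hs, pu_id, pu_id] at h1
  exact h1

/-- A geometric point of the Picard scheme comes from a class. -/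
theorem exists_class {P : Over (Spec (CommRingCat.of k))}
    {φ : ∀ T : Over (Spec (CommRingCat.of k)), PicF.Cl (PicF.XT f T) → (T ⟶ P)}
    (hφ : PicRel.IsRelPic f P φ) (g : Over.mk b ⟶ P) :
    ∃ c : Pic (PicF.XT f (Over.mk b)), cm φ c = g := by
  obtain ⟨𝒰, c, hc⟩ := exists_cm hφ g
  obtain ⟨i, s, hs⟩ := exists_section_ecov b 𝒰
  refine ⟨pu f s (c i), ?_⟩
  rw [cm_pu hφ, hc, ← Category.assoc, hs, Category.id_comp]

end Points

section Main

variable {k K : Type u} [Field k] [Field K] [IsAlgClosed K]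
  (b : Spec (CommRingCat.of K) ⟶ Spec (CommRingCat.of k))
  {X Y : Scheme.{u}} (fX : X ⟶ Spec (CommRingCat.of k)) (fY : Y ⟶ Spec (CommRingCat.of k))
  [IsProper fX] [IsProper fY]

/-- The base change to `K`. -/
noncomputable abbrev overK {X : Scheme.{u}} (fX : X ⟶ Spec (CommRingCat.of k)) :
    (PicF.XT fX (Over.mk b)).Over (Spec (CommRingCat.of K)) := ⟨pullback.snd fX b⟩

/-- `X_K ×_K T_K ⟶ X ×_k T`. -/
noncomputable def ρ (T : Over (Spec (CommRingCat.of k))) :
    letI := overK b fX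
    Pic13.prodK K (PicF.XT fX (Over.mk b)) (pullback.snd T.hom b) ⟶ PicF.XT fX T :=
  let _ := overK b fX
  pullback.lift (pullback.fst (PicF.XT fX (Over.mk b) ↘ Spec (CommRingCat.of K)) (pullback.snd T.hom b) ≫
      pullback.fst fX b)
    (pullback.snd (PicF.XT fX (Over.mk b) ↘ Spec (CommRingCat.of K)) (pullback.snd T.hom b) ≫
      pullback.fst T.hom b) (by
    have h1 : pullback.fst (PicF.XT fX (Over.mk b) ↘ Spec (CommRingCat.of K)) (pullback.snd T.hom b) ≫
      pullback.snd fX b = pullback.snd _ _ ≫ pullback.snd T.hom b := pullback.condition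
    rw [Category.assoc, Category.assoc, pullback.condition, pullback.condition, reassoc_of% h1])

theorem slice_ρ (T : Over (Spec (CommRingCat.of k))) (t : Over.mk b ⟶ T)
    (tK : Spec (CommRingCat.of K) ⟶ pullback T.hom b) (h1 : tK ≫ pullback.fst T.hom b = t.left)
    (h2 : tK ≫ pullback.snd T.hom b = 𝟙 _) :
    letI := overK b fX
    Pic13.sliceAt K (PicF.XT fX (Over.mk b)) (pullback.snd T.hom b) tK h2 ≫ ρ b fX T = PicF.XTmap fX t := by
  let _ := overK b fX
  apply pullback.hom_ext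
  · rw [Category.assoc, XTmap_fst']
    change Pic13.sliceAt K (PicF.XT fX (Over.mk b)) (pullback.snd T.hom b) tK h2 ≫ pullback.lift _ _ _ ≫ _ = _
    rw [pullback.lift_fst, sliceAt_fst_assoc]
    rfl
  · rw [Category.assoc, XTmap_snd']
    change Pic13.sliceAt K (PicF.XT fX (Over.mk b)) (pullback.snd T.hom b) tK h2 ≫ pullback.lift _ _ _ ≫ _ = _
    rw [pullback.lift_snd, sliceAt_snd_assoc, h1]
    rfl

/-- `Y_K ⟶ Y_K ×_K T'` at a rational point of `T'`, in terms of `XTmap`. -/
theorem XTmap_eT_slice {T' : Scheme.{u}} (q' : T' ⟶ Spec (CommRingCat.of K)) (t' : Spec (CommRingCat.of K) ⟶ T')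
    (ht' : t' ≫ q' = 𝟙 _) (τ : Over.mk b ⟶ (Over.map b).obj (Over.mk q')) (hτ : τ.left = t') :
    letI := overK b fY
    PicF.XTmap fY τ ≫ (eT fY b (Over.mk q')).hom = Pic13.sliceAt K (PicF.XT fY (Over.mk b)) q' t' ht' := by
  let _ := overK b fY
  apply pullback.hom_ext
  · refine Eq.trans ?_ (sliceAt_fst K (PicF.XT fY (Over.mk b)) q' t' ht').symm
    apply pullback.hom_ext
    · rw [Category.assoc, Category.assoc, eT_hom_fst_fst, XTmap_fst', Category.id_comp]
      rfl
    · rw [Category.assoc, Category.assoc, eT_hom_fst_snd, XTmap_snd'_assoc, hτ]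
      change _ ≫ t' ≫ q' = _
      rw [ht', Category.comp_id, Category.id_comp]
      rfl
  · refine Eq.trans ?_ (sliceAt_snd K (PicF.XT fY (Over.mk b)) q' t' ht').symm
    rw [Category.assoc, eT_hom_snd, XTmap_snd', hτ]
    rfl

/-- The preimage of a quasi-compact family of classes is quasi-compact. -/
theorem compactSpace_aux (H : S4291Stmt.{u}) (f : X ⟶ Y) (hf : f ≫ fY = fX) [Surjective f]
    (fK : PicF.XT fX (Over.mk b) ⟶ PicF.XT fY (Over.mk b))
    (h1 : fK ≫ pullback.fst fY b = pullback.fst fX b ≫ f)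
    (h2 : fK ≫ pullback.snd fY b = pullback.snd fX b)
    {PY PX : Over (Spec (CommRingCat.of k))}
    {φY : ∀ T : Over (Spec (CommRingCat.of k)), PicF.Cl (PicF.XT fY T) → (T ⟶ PY)}
    {φX : ∀ T : Over (Spec (CommRingCat.of k)), PicF.Cl (PicF.XT fX T) → (T ⟶ PX)}
    (hY : PicRel.IsRelPic fY PY φY) (hX : PicRel.IsRelPic fX PX φX)
    (m : PY ⟶ PX)
    (hm : ∀ c : Pic (PicF.XT fY (Over.mk b)), cm φX (pull fK c) = cm φY c ≫ m)
    (T : Over (Spec (CommRingCat.of k))) [CompactSpace T.left] [LocallyOfFiniteType T.hom]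
    (c : Pic (PicF.XT fX T)) :
    CompactSpace (pullback m.left (cm φX c).left : Scheme.{u}) := by
  let _ := overK b fX
  let _ := overK b fY
  have hpX : IsProper (PicF.XT fX (Over.mk b) ↘ Spec (CommRingCat.of K)) :=
    inferInstanceAs (IsProper (pullback.snd fX b))
  have hpY : IsProper (PicF.XT fY (Over.mk b) ↘ Spec (CommRingCat.of K)) :=
    inferInstanceAs (IsProper (pullback.snd fY b))
  have hpb : IsPullback fK (pullback.fst fX b) (pullback.fst fY b) f := by
    refine IsPullback.of_right (h₁₂ := pullback.snd fY b) (v₁₃ := b) (h₂₂ := fY) ?_ h1 ?_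
    · rw [h2, hf]
      exact (IsPullback.of_hasPullback fX b).flip
    · exact (IsPullback.of_hasPullback fY b).flip
  have hsK : Surjective fK := MorphismProperty.of_isPullback (P := @Surjective) hpb.flip inferInstance
  have hlY : LocallyOfFiniteType PY.hom := LFT.locallyOfFiniteType_hom hY
  have hqcT : QuasiCompact T.hom := inferInstance
  obtain ⟨N, hN, rfl⟩ := exists_mk c
  let qK : pullback T.hom b ⟶ Spec (CommRingCat.of K) := pullback.snd T.hom b
  let F := (Scheme.Modules.pullback (ρ b fX T)).obj N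
  have hF : PicF.IsInvertible F := LocGen.isInvertible_pullback _ hN
  let P : (PicF.XT fX (Over.mk b)).Modules → Prop := fun L =>
    ∃ (t : Spec (CommRingCat.of K) ⟶ pullback T.hom b) (ht : t ≫ qK = 𝟙 _),
      Nonempty (Pic13.fibreMod K (PicF.XT fX (Over.mk b)) qK t ht F ≅ L)
  have hP : Pic13.IsBounded K (PicF.XT fX (Over.mk b)) P :=
    ⟨_, qK, inferInstance, inferInstance, F, isCoh_of_isInvertible hF, fun L h => h⟩
  have hB := H K (PicF.XT fX (Over.mk b)) (PicF.XT fY (Over.mk b)) fK h2 P hP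
  obtain ⟨T', q', hq1, hq2, c', hc'⟩ := Groth.Agent.Pic13.H969.Bridge.bridge K (PicF.XT fY (Over.mk b)) _ hB
  let W : Over (Spec (CommRingCat.of k)) := (Over.map b).obj (Over.mk q')
  let d : Pic (PicF.XT fY W) := tr b (Over.mk q') c'
  let h : W ⟶ PY := cm φY d
  let a : T ⟶ PX := cm φX (mk N hN)
  let v : pullback (h.left ≫ m.left) a.left ⟶ pullback m.left a.left :=
    pullback.lift (pullback.fst _ _ ≫ h.left) (pullback.snd _ _) (by rw [Category.assoc, pullback.condition])
  change CompactSpace (pullback m.left a.left : Scheme.{u})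
  have hla : LocallyOfFiniteType a.left := by
    have h3 : LocallyOfFiniteType (a.left ≫ PX.hom) := by
      rw [Over.w]
      infer_instance
    exact locallyOfFiniteType_of_comp a.left PX.hom
  have hcE : CompactSpace (pullback (h.left ≫ m.left) a.left : Scheme.{u}) := by
    have hNK : IsNoetherian T' := by
      have h3 : IsLocallyNoetherian T' := LocallyOfFiniteType.isLocallyNoetherian q'
      have h4 : CompactSpace T' := (quasiCompact_iff_compactSpace (f := q')).mp inferInstance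
      exact {}
    have h5 : NoetherianSpace (pullback ((h.left ≫ m.left) ≫ PX.hom) (a.left ≫ PX.hom) : Scheme.{u}) := by
      have h6 : LocallyOfFiniteType (a.left ≫ PX.hom) := by
        rw [Over.w]
        infer_instance
      have h7 : QuasiCompact (a.left ≫ PX.hom) := by
        rw [Over.w]
        infer_instance
      have h8' : IsLocallyNoetherian W.left := inferInstanceAs (IsLocallyNoetherian T')
      have h8 : IsLocallyNoetherian (pullback ((h.left ≫ m.left) ≫ PX.hom) (a.left ≫ PX.hom) : Scheme.{u}) :=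
        LocallyOfFiniteType.isLocallyNoetherian (pullback.fst ((h.left ≫ m.left) ≫ PX.hom) (a.left ≫ PX.hom))
      have h9 : CompactSpace (pullback ((h.left ≫ m.left) ≫ PX.hom) (a.left ≫ PX.hom) : Scheme.{u}) := by
        have h10 : QuasiCompact (pullback.fst ((h.left ≫ m.left) ≫ PX.hom) (a.left ≫ PX.hom)) := inferInstance
        have h11 : CompactSpace W.left := inferInstanceAs (CompactSpace T')
        exact QuasiCompact.compactSpace_of_compactSpace
          (pullback.fst ((h.left ≫ m.left) ≫ PX.hom) (a.left ≫ PX.hom))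
      have h12 : IsNoetherian (pullback ((h.left ≫ m.left) ≫ PX.hom) (a.left ≫ PX.hom) : Scheme.{u}) := {}
      infer_instance
    exact compactSpace_pullback (h.left ≫ m.left) a.left PX.hom
  refine compactSpace_of_range (pullback.fst m.left a.left ≫ PY.hom) v fun e he => ?_
  obtain ⟨κ, hκ, hκe⟩ := exists_point_of_isClosed b (pullback.fst m.left a.left ≫ PY.hom) e he
  let g : Over.mk b ⟶ PY := Over.homMk (κ ≫ pullback.fst m.left a.left) (by
    rw [Category.assoc]
    exact hκ)
  let t : Over.mk b ⟶ T := Over.homMk (κ ≫ pullback.snd m.left a.left) (by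
    rw [Category.assoc, ← Over.w a, ← pullback.condition_assoc, Over.w m]
    exact hκ)
  have hgt : g ≫ m = t ≫ a := by
    ext
    change (κ ≫ pullback.fst m.left a.left) ≫ m.left = (κ ≫ pullback.snd m.left a.left) ≫ a.left
    rw [Category.assoc, Category.assoc, pullback.condition]
  obtain ⟨M', hM'⟩ := exists_class b fY hY g
  have e1 : pull fK M' = pu fX t (mk N hN) := by
    apply eq_of_locEq b fX
    rw [← cm_eq_iff hX, hm, hM', hgt, cm_pu hX]
  obtain ⟨L, hL, rfl⟩ := exists_mk M'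
  have htw : t.left ≫ T.hom = 𝟙 _ ≫ b := by
    rw [Over.w t, Category.id_comp]
    rfl
  let tK : Spec (CommRingCat.of K) ⟶ pullback T.hom b := pullback.lift t.left (𝟙 _) htw
  have htK1 : tK ≫ pullback.fst T.hom b = t.left := pullback.lift_fst _ _ _
  have htK2 : tK ≫ pullback.snd T.hom b = 𝟙 _ := pullback.lift_snd _ _ _
  have e2 : Nonempty (Pic13.fibreMod K (PicF.XT fX (Over.mk b)) qK tK htK2 F ≅
      (Scheme.Modules.pullback fK).obj L) := by
    refine (mk_eq_iff (LocGen.isInvertible_pullback _ hF) (LocGen.isInvertible_pullback _ hL)).1 ?_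
    change pull (Pic13.sliceAt K (PicF.XT fX (Over.mk b)) qK tK htK2) (pull (ρ b fX T) (mk N hN)) = pull fK (mk L hL)
    rw [← pull_comp, e1]
    exact congrArg (fun r => pull r (mk N hN)) (slice_ρ b fX T t tK htK1 htK2)
  obtain ⟨t', ht', e3⟩ := hc' (mk L hL) ⟨L, hL, ⟨hL, _, ⟨tK, htK2, e2⟩, ⟨Iso.refl _⟩⟩, rfl⟩
  let τ : Over.mk b ⟶ W := Over.homMk t' (by
    change t' ≫ q' ≫ b = b
    rw [← Category.assoc, ht', Category.id_comp])
  have e4 : τ ≫ h = g := by
    change τ ≫ cm φY d = g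
    rw [← cm_pu hY, ← hM']
    congr 1
    change pull (PicF.XTmap fY τ) (pull (eT fY b (Over.mk q')).hom c') = mk L hL
    rw [← pull_comp, ← e3]
    exact congrArg (fun r => pull r c') (XTmap_eT_slice b fY q' t' ht' τ rfl)
  have e5 : t' ≫ h.left = κ ≫ pullback.fst m.left a.left := congrArg CommaMorphism.left e4
  let κ' : Spec (CommRingCat.of K) ⟶ pullback (h.left ≫ m.left) a.left := pullback.lift t' t.left (by
    rw [reassoc_of% e5, pullback.condition]
    exact (Category.assoc _ _ _).symm)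
  have e6 : κ' ≫ v = κ := by
    apply pullback.hom_ext
    · rw [Category.assoc, pullback.lift_fst, pullback.lift_fst_assoc, e5]
    · rw [Category.assoc, pullback.lift_snd, pullback.lift_snd]
      rfl
  obtain ⟨z, hz⟩ := hκe
  exact ⟨κ' z, by rw [← Scheme.Hom.comp_apply, e6, hz]⟩

end Main

/-- Quasi-compactness of the morphism of Picard schemes (conditional on S4291). -/
theorem quasiCompact_of_S4291 (H : S4291Stmt.{u}) (k : Type u) [Field k] (X Y : Scheme.{u})
    [X.Over (Spec (CommRingCat.of k))] [Y.Over (Spec (CommRingCat.of k))]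
    [IsProper (X ↘ Spec (CommRingCat.of k))] [IsProper (Y ↘ Spec (CommRingCat.of k))]
    (f : X ⟶ Y) (hf : f ≫ (Y ↘ Spec (CommRingCat.of k)) = X ↘ Spec (CommRingCat.of k)) [Surjective f]
    (fT : ∀ T : Over (Spec (CommRingCat.of k)), PicF.XT (X ↘ Spec (CommRingCat.of k)) T ⟶ PicF.XT (Y ↘ Spec (CommRingCat.of k)) T)
    (hfT : ∀ T, fT T ≫ pullback.fst _ _ = pullback.fst _ _ ≫ f ∧ fT T ≫ pullback.snd _ _ = pullback.snd _ _)
    (PY PX : Over (Spec (CommRingCat.of k)))
    (φY : ∀ T : Over (Spec (CommRingCat.of k)), PicF.Cl (PicF.XT (Y ↘ Spec (CommRingCat.of k)) T) → (T ⟶ PY))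
    (φX : ∀ T : Over (Spec (CommRingCat.of k)), PicF.Cl (PicF.XT (X ↘ Spec (CommRingCat.of k)) T) → (T ⟶ PX))
    (hY : PicRel.IsRelPic (Y ↘ Spec (CommRingCat.of k)) PY φY) (hX : PicRel.IsRelPic (X ↘ Spec (CommRingCat.of k)) PX φX)
    (m : PY ⟶ PX) (hm : ∀ (T : Over (Spec (CommRingCat.of k))) (c : PicF.Cl (PicF.XT (Y ↘ Spec (CommRingCat.of k)) T)),
      PicF.IsInvertibleCl c → φX T (PicF.pullCl (fT T) c) = φY T c ≫ m) :
    QuasiCompact m.left := by
  let K := AlgebraicClosure k
  let b : Spec (CommRingCat.of K) ⟶ Spec (CommRingCat.of k) := Spec.map (CommRingCat.ofHom (algebraMap k K))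
  have hm' : ∀ c : Pic (PicF.XT (Y ↘ Spec (CommRingCat.of k)) (Over.mk b)),
      cm φX (pull (fT (Over.mk b)) c) = cm φY c ≫ m := by
    intro c
    rw [cm, toCl_pull, hm _ _ (isInvertibleCl_toCl c)]
    rfl
  have key : ∀ (T : Over (Spec (CommRingCat.of k))) [CompactSpace T.left] [LocallyOfFiniteType T.hom]
      (c : Pic (PicF.XT (X ↘ Spec (CommRingCat.of k)) T)),
      CompactSpace (pullback m.left (cm φX c).left : Scheme.{u}) := fun T _ _ c =>
    compactSpace_aux b (X ↘ Spec (CommRingCat.of k)) (Y ↘ Spec (CommRingCat.of k)) H f hf (fT (Over.mk b))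
      (hfT (Over.mk b)).1 (hfT (Over.mk b)).2 hY hX m hm' T c
  have hlX : LocallyOfFiniteType PX.hom := LFT.locallyOfFiniteType_hom hX
  obtain ⟨𝒰, c, hc⟩ := exists_cm hX (𝟙 PX)
  refine ⟨fun V hV hVc => ?_⟩
  -- local data
  have hloc : ∀ p : PX.left, p ∈ V → ∃ (T : Over (Spec (CommRingCat.of k))) (_ : CompactSpace T.left)
      (_ : LocallyOfFiniteType T.hom) (c : Pic (PicF.XT (X ↘ Spec (CommRingCat.of k)) T)),
      p ∈ Set.range (cm φX c).left ∧ IsOpen (Set.range (cm φX c).left) ∧ Set.range (cm φX c).left ⊆ V := by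
    intro p hp
    obtain ⟨i, u, hu⟩ := 𝒰.covers p
    have het : Etale (𝒰.j i).left := 𝒰.isEtale i
    obtain ⟨_, ⟨A, hA, rfl⟩, huA, hAV⟩ := (𝒰.V i).left.isBasis_affineOpens.exists_subset_of_mem_open
      (show u ∈ (𝒰.j i).left ⁻¹' V by
        change (𝒰.j i).left u ∈ V
        rw [hu]
        exact hp) (hV.preimage (𝒰.j i).left.continuous)
    let T : Over (Spec (CommRingCat.of k)) := Over.mk (Scheme.Opens.ι A ≫ (𝒰.V i).hom)
    let w : T ⟶ 𝒰.V i := Over.homMk (Scheme.Opens.ι A) rfl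
    have hcm : cm φX (pu (X ↘ Spec (CommRingCat.of k)) w (c i)) = w ≫ 𝒰.j i := by
      rw [cm_pu hX, hc, Category.comp_id]
    have hcml : (cm φX (pu (X ↘ Spec (CommRingCat.of k)) w (c i))).left = Scheme.Opens.ι A ≫ (𝒰.j i).left :=
      congrArg CommaMorphism.left hcm
    have hA' : IsAffine (A : Scheme.{u}) := hA
    have hcT : CompactSpace T.left := inferInstanceAs (CompactSpace (A : Scheme.{u}))
    have hlT : LocallyOfFiniteType T.hom := by
      change LocallyOfFiniteType (Scheme.Opens.ι A ≫ (𝒰.V i).hom)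
      rw [← Over.w (𝒰.j i)]
      infer_instance
    refine ⟨T, hcT, hlT, pu (X ↘ Spec (CommRingCat.of k)) w (c i), ?_, ?_, ?_⟩
    · rw [hcml]
      exact ⟨⟨u, huA⟩, by rw [Scheme.Hom.comp_apply]; exact hu⟩
    · rw [hcml]
      exact (Scheme.Opens.ι A ≫ (𝒰.j i).left).isOpenMap.isOpen_range
    · rw [hcml]
      rintro _ ⟨y, rfl⟩
      rw [Scheme.Hom.comp_apply]
      exact hAV y.2
  choose T hT1 hT2 cT hT3 hT4 hT5 using hloc
  obtain ⟨t, ht⟩ := hVc.elim_finite_subcover
    (fun p : V => Set.range (cm φX (cT p.1 p.2)).left) (fun p => hT4 p.1 p.2)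
    (fun p hp => Set.mem_iUnion.2 ⟨⟨p, hp⟩, hT3 p hp⟩)
  have huni : m.left ⁻¹' V = ⋃ p ∈ t, Set.range (pullback.fst m.left (cm φX (cT p.1 p.2)).left) := by
    ext y
    rw [Set.mem_preimage, Set.mem_iUnion₂]
    constructor
    · intro hy
      obtain ⟨p, hp, hyp⟩ := Set.mem_iUnion₂.1 (ht hy)
      refine ⟨p, hp, ?_⟩
      rw [Scheme.Pullback.range_fst]
      exact hyp
    · rintro ⟨p, hp, hyp⟩
      rw [Scheme.Pullback.range_fst] at hyp
      exact hT5 p.1 p.2 hyp
  rw [huni]
  refine t.finite_toSet.isCompact_biUnion fun p _ => ?_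
  have hc1 := hT1 p.1 p.2
  have hc2 := hT2 p.1 p.2
  have := key (T p.1 p.2) (cT p.1 p.2)
  exact isCompact_range (pullback.fst m.left (cm φX (cT p.1 p.2)).left).continuous

end Groth.Agent.Pic13.H703.QC
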